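import Cfsg.Agent.Lib.M24Nse.StdCent
import Cfsg.Agent.Lib.M23Uniq.SameCounts
import Cfsg.Agent.Lib.M23Order.Pairs

/-!
Residues of the numbers of elements of equal order in the group of degree 24, and the numbers of
elements of equal order in the centraliser of a subgroup of prime order.
-/

set_option linter.unusedSectionVars false
set_option linter.style.haveILetI false
set_option maxRecDepth 100000

namespace Cfsg.Agent.M24Nse

open Cfsg Cfsg.Agent.M23Uniq Cfsg.Agent.PermCert Cfsg.Agent.DefOne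
open Cfsg.Agent.Golay.SB (E5 E7 E11 free24)

universe u

set_option quotPrecheck false in
local notation "Mg" => (↥Cfsg.M24)

/-- The data of the group of degree 24 at a prime. -/
def StdRes (p ν : ℕ) (L : List Elt) : Prop :=
  ∃ y : Mg, orderOf y = p ∧
    Nat.card (Subgroup.normalizer ((Subgroup.zpowers y : Subgroup Mg) : Set Mg)) = ν ∧
    ∀ k, ocount Mg k % p = cnt L k % p

theorem res7 : StdRes 7 126 cent7 :=
  std_data E7 (m := 34974720) (ν := 126) (e := 3) cent7 cent7_ok.1 cent7_ok.2 rfl (by decide +kernel)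
    (by rw [free24.2.1]; rfl) (by decide +kernel) (by norm_num) (by decide +kernel)

theorem res5 : StdRes 5 240 cent5 :=
  std_data E5 (m := 48964608) (ν := 240) (e := 4) cent5 cent5_ok.1 cent5_ok.2 rfl (by decide +kernel)
    (by rw [free24.1]; rfl) (by decide +kernel) (by norm_num) (by decide +kernel)

theorem res11 : StdRes 11 110 cent11 :=
  std_data E11 (m := 22256640) (ν := 110) (e := 10) cent11 cent11_ok.1 cent11_ok.2 rfl (by decide +kernel)
    (by rw [free24.2.2.1]; rfl) (by decide +kernel) (by norm_num) (by decide +kernel)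

theorem cnt_eq_zero {L : List Elt} {k : ℕ} (h : k ∉ L.map ordE) : cnt L k = 0 :=
  List.count_eq_zero.2 h

theorem eleven_check : ∀ k ∈ cent11.map ordE,
    cnt cent11 k % 11 ∈ ([0, 1, 10] : List ℕ) ∧ (cnt cent11 k % 11 = 1 → k = 1) ∧
      (cnt cent11 k % 11 = 10 → k = 11) := by decide +kernel

theorem seven_check : ∀ k ∈ cent7.map ordE, cnt cent7 k % 7 = 6 → k = 7 := by decide +kernel

theorem five_check : ∀ k ∈ cent5.map ordE, cnt cent5 k % 5 = 4 → k = 5 := by decide +kernel

theorem seven_two : cnt cent7 2 % 7 = 3 := by decide +kernel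

theorem joint_check : ∀ k ∈ cent5.map ordE ++ cent7.map ordE,
    (cnt cent7 k % 7 = 3 → cnt cent5 k % 5 = 3) ∧ (cnt cent7 k % 7 = 2 → cnt cent5 k % 5 = 3) ∧
    (cnt cent7 k % 7 = 0 → cnt cent5 k % 5 ∈ ([0, 2, 4] : List ℕ)) := by decide +kernel

/-- The residues at 5 and 7 of one count. -/
theorem joint (k : ℕ) :
    (ocount Mg k % 7 = 3 → ocount Mg k % 5 = 3) ∧ (ocount Mg k % 7 = 2 → ocount Mg k % 5 = 3) ∧
    (ocount Mg k % 7 = 0 → ocount Mg k % 5 ∈ ([0, 2, 4] : List ℕ)) := by
  obtain ⟨_, -, -, h5⟩ := res5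
  obtain ⟨_, -, -, h7⟩ := res7
  rw [h5 k, h7 k]
  by_cases hk : k ∈ cent5.map ordE ++ cent7.map ordE
  · exact joint_check k hk
  · rw [List.mem_append, not_or] at hk
    rw [cnt_eq_zero hk.1, cnt_eq_zero hk.2]
    simp

variable {G : Type u} [Group G] [Finite G]

/-- Every order of an element divides the order of the group. -/
theorem ocount_eq_zero {n : ℕ} (h : ¬ n ∣ Nat.card G) : ocount G n = 0 := by
  haveI : IsEmpty {g : G // orderOf g = n} := ⟨fun g => h (g.2 ▸ orderOf_dvd_natCard g.1)⟩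
  exact Nat.card_of_isEmpty

theorem sum_ocount : ∑ d ∈ (Nat.card G).divisors, ocount G d = Nat.card G := by
  classical
  haveI : Fintype G := Fintype.ofFinite G
  have h := Finset.card_eq_sum_card_fiberwise (s := (Finset.univ : Finset G)) (t := (Nat.card G).divisors)
    (f := fun g : G => orderOf g)
    (fun g _ => Nat.mem_divisors.2 ⟨orderOf_dvd_natCard g, Nat.card_pos.ne'⟩)
  rw [Finset.card_univ, ← Nat.card_eq_fintype_card] at h
  refine (Finset.sum_congr rfl fun d _ => ?_).trans h.symm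
  rw [ocount, Nat.card_eq_fintype_card, Fintype.card_subtype]

section Centraliser

variable {H : Type u} [Group H] [Fintype H] {p : ℕ} {P V N : Subgroup H} {e : ℕ} (K : Conf p P V N e)
  [Fintype P] [Fintype V] [Fintype N] [Fintype (P →* ℂˣ)]

include K

theorem ocount_cent_regular {n : ℕ} (hn : ¬ p ∣ n) :
    ocount (Subgroup.centralizer (P : Set H)) n = ocount V n :=
  Nat.card_congr
    { toFun := fun g => ⟨⟨((g.1 : Subgroup.centralizer (P : Set H)) : H),
        mem_V_of_regular K g.1.2 (by rw [Subgroup.orderOf_coe, g.2]; exact hn)⟩,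
        by rw [← Subgroup.orderOf_coe]; show orderOf ((g.1 : Subgroup.centralizer (P : Set H)) : H) = n
           rw [Subgroup.orderOf_coe, g.2]⟩
      invFun := fun g => ⟨⟨((g.1 : V) : H), V_le_centralizer K g.1.2⟩,
        by rw [← Subgroup.orderOf_coe]; show orderOf ((g.1 : V) : H) = n
           rw [Subgroup.orderOf_coe, g.2]⟩
      left_inv := fun g => rfl
      right_inv := fun g => rfl }

theorem ocount_cent_singular {k : ℕ} (hk : ¬ p ∣ k) :
    ocount (Subgroup.centralizer (P : Set H)) (p * k) = (p - 1) * ocount V k := by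
  classical
  haveI := Fact.mk K.hp
  have hP1 : Nat.card {y : P // y ≠ 1} = p - 1 := by
    rw [Nat.card_eq_fintype_card, Fintype.card_subtype_compl, Fintype.card_subtype_eq, ← Nat.card_eq_fintype_card,
      K.hP]
  have hord : ∀ (y : P) (u : V), y ≠ 1 → orderOf ((y : H) * (u : H)) = p * orderOf (u : H) := by
    intro y u hy
    have hy' : orderOf (y : H) = p := orderOf_P K y.2 fun e => hy (Subtype.ext e)
    rw [(show Commute (y : H) u from K.D.pv y y.2 u u.2).orderOf_mul_eq_mul_orderOf_of_coprime, hy']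
    rw [hy']
    exact K.hp.coprime_iff_not_dvd.2 fun h => K.hV (h.trans (Subgroup.orderOf_dvd_natCard V u.2))
  let f : {y : P // y ≠ 1} × {u : V // orderOf u = k} →
      {g : Subgroup.centralizer (P : Set H) // orderOf g = p * k} := fun yu =>
    ⟨⟨(yu.1.1 : H) * (yu.2.1 : H), (K.hC _).2 ⟨_, yu.1.1.2, _, yu.2.1.2, rfl⟩⟩, by
      rw [← Subgroup.orderOf_coe]
      show orderOf ((yu.1.1 : H) * (yu.2.1 : H)) = p * k
      rw [hord _ _ yu.1.2, Subgroup.orderOf_coe, yu.2.2]⟩
  have hf : Function.Bijective f := by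
    refine ⟨fun a b h => ?_, fun g => ?_⟩
    · have h' : (a.1.1 : H) * (a.2.1 : H) = (b.1.1 : H) * (b.2.1 : H) := congrArg (fun z => ((z.1 :
        Subgroup.centralizer (P : Set H)) : H)) h
      obtain ⟨h1, h2⟩ := M23Order.coord_unique K a.1.1.2 b.1.1.2 a.2.1.2 b.2.1.2 h'
      exact Prod.ext (Subtype.ext (Subtype.ext h1)) (Subtype.ext (Subtype.ext h2))
    · obtain ⟨y, hy, v, hv, hyv⟩ := (K.hC _).1 g.1.2
      have hg : orderOf (y * v) = p * k := by rw [hyv, Subgroup.orderOf_coe, g.2]
      have hy1 : (⟨y, hy⟩ : P) ≠ 1 := fun e => by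
        rw [show y = 1 from congrArg Subtype.val e, one_mul] at hg
        exact K.hV ((Dvd.intro k hg.symm).trans (Subgroup.orderOf_dvd_natCard V hv))
      have hv' : orderOf (⟨v, hv⟩ : V) = k := by
        rw [Subgroup.orderOf_mk]
        have := hord ⟨y, hy⟩ ⟨v, hv⟩ hy1
        rw [hg] at this
        exact (Nat.eq_of_mul_eq_mul_left K.hp.pos this).symm
      exact ⟨(⟨⟨y, hy⟩, hy1⟩, ⟨⟨v, hv⟩, hv'⟩), Subtype.ext (Subtype.ext hyv)⟩
  rw [ocount, ← Nat.card_eq_of_bijective f hf, Nat.card_prod, hP1]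
  rfl

/-- The residue of a count, read in the complement. -/
theorem ocount_residue (n : ℕ) :
    (¬ p ∣ n ∧ ocount H n ≡ ocount V n [MOD p]) ∨
    (∃ k, n = p * k ∧ ocount H n ≡ (p - 1) * ocount V k [MOD p]) := by
  haveI := Fact.mk K.hp
  obtain ⟨y, hy, hy1⟩ : ∃ y ∈ P, y ≠ 1 := by
    by_contra h
    push Not at h
    exact K.hp.ne_one (K.hP ▸ Subgroup.card_eq_one.2 (eq_bot_iff.2 fun z hz => Subgroup.mem_bot.2 (h z hz)))
  have h := ocount_modEq (orderOf_P K hy hy1) n
  rw [← centralizer_P K hy hy1] at h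
  by_cases hp : p ∣ n
  · right
    obtain ⟨k, rfl⟩ := hp
    refine ⟨k, rfl, ?_⟩
    by_cases hk : p ∣ k
    · have h1 : ocount (Subgroup.centralizer (P : Set H)) (p * k) = 0 := by
        refine ocount_eq_zero fun hd => K.hV ?_
        rw [card_centralizer K] at hd
        exact hk.trans (Nat.dvd_of_mul_dvd_mul_left K.hp.pos hd)
      have h2 : ocount V k = 0 := ocount_eq_zero fun hd => K.hV (hk.trans hd)
      rwa [h1, show (0 : ℕ) = (p - 1) * ocount V k by rw [h2, mul_zero]] at h
    · rwa [ocount_cent_singular K hk] at h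
  · exact Or.inl ⟨hp, by rwa [ocount_cent_regular K hp] at h⟩

end Centraliser

end Cfsg.Agent.M24Nse
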