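import Cfsg.Agent.Lib.M24Nse.Counts
import Cfsg.Agent.Lib.M24Nse.Recognise
import Cfsg.Agent.Lib.M24Uniq.Basic

/-!
The same numbers of elements of equal order as in the group of degree 24 give the local data at
23, 11, 7 and 5.
-/

set_option linter.unusedSectionVars false
set_option linter.style.haveILetI false
set_option maxRecDepth 100000

namespace Cfsg.Agent.M24Nse

open Cfsg Cfsg.Agent.M23Uniq Cfsg.Agent.PermCert Cfsg.Agent.DefOne

universe u

set_option quotPrecheck false in
local notation "Mg" => (↥Cfsg.M24)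

/-- The two inclusions of the sets of counts. -/
structure SameVals (G : Type u) [Group G] : Prop where
  card : Nat.card G = 244823040
  to_std : ∀ n, 0 < ocount G n → ∃ k, ocount G n = ocount Mg k
  from_std : ∀ k, 0 < ocount Mg k → ∃ n, ocount G n = ocount Mg k

/-- The extended local data. -/
structure NseLocals (G : Type u) [Group G] : Prop where
  L : M24Uniq.Locals G
  c7 : ∀ x : G, orderOf x = 7 → Nat.card (Subgroup.centralizer ({x} : Set G)) = 42
  n7 : ∀ P : Sylow 7 G, Nat.card (Subgroup.normalizer ((P : Subgroup G) : Set G)) = 126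
  nonab7 : ∀ x : G, orderOf x = 7 →
    ∃ a ∈ Subgroup.centralizer ({x} : Set G), ∃ b ∈ Subgroup.centralizer ({x} : Set G), a * b ≠ b * a
  c5 : ∀ x : G, orderOf x = 5 → Nat.card (Subgroup.centralizer ({x} : Set G)) = 60
  n5 : ∀ P : Sylow 5 G, Nat.card (Subgroup.normalizer ((P : Subgroup G) : Set G)) = 240
  inv5 : ∀ x : G, orderOf x = 5 → ocount (Subgroup.centralizer ({x} : Set G)) 2 = 3 ∧
    ocount (Subgroup.centralizer ({x} : Set G)) 3 = 8

theorem SameVals.nse {G : Type u} [Group G] [Finite G] (hcard : Nat.card G = Nat.card Mg)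
    (hnse : {c : ℕ | 0 < c ∧ ∃ n : ℕ, c = Nat.card {g : G // orderOf g = n}} =
      {c : ℕ | 0 < c ∧ ∃ n : ℕ, c = Nat.card {g : Mg // orderOf g = n}}) : SameVals G := by
  refine ⟨hcard.trans Golay.card_M24, fun n hn => ?_, fun k hk => ?_⟩
  · exact ((Set.ext_iff.1 hnse _).1 ⟨hn, n, rfl⟩).2
  · obtain ⟨n, hn⟩ := ((Set.ext_iff.1 hnse _).2 ⟨hk, k, rfl⟩).2
    exact ⟨n, hn.symm⟩

variable {G : Type u} [Group G] [Finite G]

/-- A count that is a count of the standard group forces the Sylow normaliser. -/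
theorem SameVals.normalizer (h : SameVals G) {p ν m : ℕ} [Fact p.Prime] {L : List Elt} (hs : StdRes p ν L)
    (hcard : 244823040 = p * m) (hm : ¬ p ∣ m)
    (hsupp : ∀ k ∈ L.map ordE, cnt L k % p = p - 1 → k = p) (P : Sylow p G) :
    Nat.card (Subgroup.normalizer ((P : Subgroup G) : Set G)) = ν := by
  have hp := (Fact.out : p.Prime)
  obtain ⟨y, hy, hν, hres⟩ := hs
  obtain ⟨g, hg⟩ := exists_prime_orderOf_dvd_card' (G := G) p (h.card.symm ▸ hcard.symm ▸ dvd_mul_right p m)
  have hpos : 0 < ocount G p := Nat.card_pos_iff.2 ⟨⟨⟨g, hg⟩⟩, inferInstance⟩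
  obtain ⟨d, hd⟩ := h.to_std p hpos
  have hmod : ocount G p % p = p - 1 := by
    rw [ocount, M12Uniq.count_prime (h.card.trans hcard) hm, Nat.mul_mod, card_sylow_modEq_one p G, ← Nat.mul_mod,
      one_mul, Nat.mod_eq_of_lt (Nat.sub_lt hp.pos one_pos)]
  have hdp : d = p := by
    have h1 := hres d
    rw [← hd, hmod] at h1
    by_cases hdL : d ∈ L.map ordE
    · exact hsupp d hdL h1.symm
    · rw [cnt_eq_zero hdL, Nat.zero_mod] at h1
      have := hp.two_le
      omega
  subst hdp
  have hxM : Nat.card Mg = d ^ 1 * m := Golay.card_M24.trans (by rw [pow_one]; exact hcard)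
  obtain ⟨Q, hQ⟩ := zpowers_eq_sylow hxM hm hy
  rw [hQ] at hν
  have e1 := ocount_prime_eq (h.card.trans hcard) hm P rfl
  have e2 := ocount_prime_eq (Golay.card_M24.trans hcard) hm Q hν
  rw [hd, ← e2] at e1
  refine Nat.eq_of_mul_eq_mul_right (Nat.pos_of_ne_zero fun h0 => ?_) e1
  rw [hd, h0] at hpos
  exact lt_irrefl 0 hpos

theorem ocount_two_le (V : Type u) [Group V] [Finite V] : ocount V 2 ≤ Nat.card V :=
  Finite.card_subtype_le _

/-- A group of order at most nine with three involutions modulo seven is nonabelian of order six. -/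
theorem complement_seven {V : Type u} [Group V] [Finite V] (hv : Nat.card V ∈ ([3, 6, 9] : List ℕ))
    {k : ℕ} (hk : ocount V k % 7 = 3 ∨ ocount V k % 7 = 4) :
    Nat.card V = 6 ∧ ∃ a b : V, a * b ≠ b * a := by
  haveI : Fact (Nat.Prime 3) := ⟨Nat.prime_three⟩
  haveI : Fact (Nat.Prime 2) := ⟨Nat.prime_two⟩
  suffices hnc : ¬ ∀ a b : V, a * b = b * a by
    push Not at hnc
    refine ⟨?_, hnc⟩
    obtain ⟨a, b, hab⟩ := hnc
    simp only [List.mem_cons, List.not_mem_nil, or_false] at hv
    rcases hv with hv | hv | hv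
    · haveI := isCyclic_of_prime_card hv
      exact absurd (IsCyclic.isMulCommutative.is_comm.comm a b) hab
    · exact hv
    · exact absurd (IsPGroup.commutative_of_card_eq_prime_sq (p := 3) (by rw [hv]; norm_num) a b) hab
  intro hc
  have hcyc : IsCyclic V → False := fun _ => by
    rw [ocount_cyclic] at hk
    have hall : ∀ v ∈ ([3, 6, 9] : List ℕ), ∀ d ∈ Nat.divisors v,
        d.totient % 7 ≠ 3 ∧ d.totient % 7 ≠ 4 := by decide +kernel
    split_ifs at hk with hd
    · have := hall _ hv k (Nat.mem_divisors.2 ⟨hd, Nat.card_pos.ne'⟩)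
      omega
    · exact hk.elim id id
  simp only [List.mem_cons, List.not_mem_nil, or_false] at hv
  rcases hv with hv | hv | hv
  · exact hcyc (isCyclic_of_prime_card hv)
  · obtain ⟨a, ha⟩ := exists_prime_orderOf_dvd_card' (G := V) 2 (by rw [hv]; norm_num)
    obtain ⟨b, hb⟩ := exists_prime_orderOf_dvd_card' (G := V) 3 (by rw [hv]; norm_num)
    refine hcyc (isCyclic_of_orderOf_eq_card (a * b) ?_)
    rw [(show Commute a b from hc a b).orderOf_mul_eq_mul_orderOf_of_coprime (by rw [ha, hb]; norm_num), ha, hb, hv]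
  · by_cases h9 : ∃ a : V, orderOf a = 9
    · obtain ⟨a, ha⟩ := h9
      exact hcyc (isCyclic_of_orderOf_eq_card a (by rw [ha, hv]))
    push Not at h9
    have hall : ∀ a : V, orderOf a = 1 ∨ orderOf a = 3 := fun a => by
      have hd : orderOf a ∈ Nat.divisors 9 := Nat.mem_divisors.2 ⟨hv ▸ orderOf_dvd_natCard a, by norm_num⟩
      rw [show (9 : ℕ).divisors = {1, 3, 9} by decide +kernel] at hd
      simp only [Finset.mem_insert, Finset.mem_singleton] at hd
      have := h9 a
      omega
    have hz : ∀ d, d ≠ 1 → d ≠ 3 → ocount V d = 0 := fun d h1 h3 => by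
      haveI : IsEmpty {g : V // orderOf g = d} := ⟨fun g => by rcases hall g.1 with h | h <;> omega⟩
      exact Nat.card_of_isEmpty
    have hsum := sum_ocount (G := V)
    rw [hv, show (9 : ℕ).divisors = {1, 3, 9} by decide +kernel, Finset.sum_insert (by simp),
      Finset.sum_pair (by norm_num), ocount_one, hz 9 (by norm_num) (by norm_num)] at hsum
    by_cases h1 : k = 1
    · rw [h1, ocount_one] at hk
      omega
    · by_cases h3 : k = 3
      · rw [h3] at hk
        omega
      · rw [hz k h1 h3] at hk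
        omega

/-- The counts in a noncommutative group of order six. -/
theorem counts_six {V : Type u} [Group V] [Finite V] (hv : Nat.card V = 6)
    (hnc : ∃ a b : V, a * b ≠ b * a) :
    ocount V 2 = 3 ∧ ocount V 3 = 2 ∧ ∀ d, d ≠ 1 → d ≠ 2 → d ≠ 3 → ocount V d = 0 := by
  haveI : Fact (Nat.Prime 3) := ⟨Nat.prime_three⟩
  haveI : Fact (Nat.Prime 2) := ⟨Nat.prime_two⟩
  have h6 : ocount V 6 = 0 := by
    haveI : IsEmpty {g : V // orderOf g = 6} := ⟨fun g => by
      obtain ⟨a, b, hab⟩ := hnc
      haveI := isCyclic_of_orderOf_eq_card g.1 (g.2.trans hv.symm)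
      exact hab (IsCyclic.isMulCommutative.is_comm.comm a b)⟩
    exact Nat.card_of_isEmpty
  have h3 : ocount V 3 = 2 := by
    obtain ⟨P⟩ : Nonempty (Sylow 3 V) := inferInstance
    have hd : Nat.card (Sylow 3 V) ∣ 6 := by
      rw [← hv, ← Small.card_normalizer_mul P]
      exact dvd_mul_left _ _
    have hm : Nat.card (Sylow 3 V) % 3 = 1 := card_sylow_modEq_one 3 V
    have hall : ∀ n ∈ Nat.divisors 6, n % 3 = 1 → n = 1 := by decide +kernel
    rw [ocount, M12Uniq.count_prime (p := 3) (m := 2) (by rw [hv]) (by norm_num),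
      hall _ (Nat.mem_divisors.2 ⟨hd, by norm_num⟩) hm]
  have hsum := sum_ocount (G := V)
  rw [hv, show (6 : ℕ).divisors = {1, 2, 3, 6} by decide +kernel, Finset.sum_insert (by simp),
    Finset.sum_insert (by simp), Finset.sum_pair (by norm_num), ocount_one, h3, h6] at hsum
  refine ⟨by omega, h3, fun d h1 h2 h3' => ?_⟩
  by_cases hd : d ∣ 6
  · have hmem : d ∈ Nat.divisors 6 := Nat.mem_divisors.2 ⟨hd, by norm_num⟩
    rw [show (6 : ℕ).divisors = {1, 2, 3, 6} by decide +kernel] at hmem
    simp only [Finset.mem_insert, Finset.mem_singleton] at hmem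
    rw [show d = 6 by omega, h6]
  · exact ocount_eq_zero (by rwa [hv])

/-- The numbers of a complement at five. -/
theorem complement_five {V : Type u} [Group V] [Finite V] (hv : Nat.card V = 12 ∨ Nat.card V = 24)
    (h2 : ocount V 2 % 5 = 3) (h3 : ocount V 3 % 5 = 3)
    (h4 : ∀ d, 4 ≤ d → ocount V d % 5 = 0) :
    Nat.card V = 12 ∧ ocount V 2 = 3 ∧ ocount V 3 = 8 := by
  have o2 := ocount_two_odd (G := V) (by omega)
  have e3 := two_dvd_ocount (G := V) (n := 3) (by norm_num)
  have e : ∀ d, 4 ≤ d → 10 ∣ ocount V d := fun d hd => by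
    have := h4 d hd
    have := two_dvd_ocount (G := V) (n := d) (by omega)
    omega
  have e4 := e 4 (by norm_num); have e6 := e 6 (by norm_num); have e8 := e 8 (by norm_num)
  have e12 := e 12 (by norm_num); have e24 := e 24 (by norm_num)
  have hsum := sum_ocount (G := V)
  rcases hv with hv | hv
  · rw [hv, show (12 : ℕ).divisors = {1, 2, 3, 4, 6, 12} by decide +kernel,
      Finset.sum_insert (by simp), Finset.sum_insert (by simp), Finset.sum_insert (by simp),
      Finset.sum_insert (by simp), Finset.sum_pair (by norm_num), ocount_one] at hsum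
    omega
  · rw [hv, show (24 : ℕ).divisors = {1, 2, 3, 4, 6, 8, 12, 24} by decide +kernel,
      Finset.sum_insert (by simp), Finset.sum_insert (by simp), Finset.sum_insert (by simp),
      Finset.sum_insert (by simp), Finset.sum_insert (by simp), Finset.sum_insert (by simp),
      Finset.sum_pair (by norm_num), ocount_one] at hsum
    omega

/-- The subgroup of an element of prime order as a configuration. -/
theorem exists_conf_at [Fintype G] {p m : ℕ} [Fact p.Prime] (hcard : Nat.card G = p * m) (hm : ¬ p ∣ m)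
    {x : G} (hx : orderOf x = p) :
    ∃ (P : Sylow p G) (V : Subgroup G) (e : ℕ),
      Conf p (P : Subgroup G) V (Subgroup.normalizer ((P : Subgroup G) : Set G)) e ∧
      Subgroup.centralizer ((P : Subgroup G) : Set G) = Subgroup.centralizer ({x} : Set G) := by
  obtain ⟨P, hP⟩ := zpowers_eq_sylow (m := m) (by rw [pow_one]; exact hcard) hm hx
  have hPc : Nat.card (P : Subgroup G) = p := by rw [← hP, Nat.card_zpowers, hx]
  obtain ⟨V, e, K, -⟩ := exists_conf (Fact.out : p.Prime) P hPc
  exact ⟨P, V, e, K, by rw [← hP, centralizer_zpowers]⟩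

theorem conf_facts [Fintype G] [IsSimpleGroup G] (hG : Nat.card G = 244823040) {p ν : ℕ} [Fact p.Prime]
    (hdvd : p ∣ 244823040) {P : Sylow p G} {V : Subgroup G} {e : ℕ}
    (K : Conf p (P : Subgroup G) V (Subgroup.normalizer ((P : Subgroup G) : Set G)) e)
    [Fintype (P : Subgroup G)] [Fintype V] [Fintype (Subgroup.normalizer ((P : Subgroup G) : Set G))]
    [Fintype ((P : Subgroup G) →* ℂˣ)]
    (hν : Nat.card (Subgroup.normalizer ((P : Subgroup G) : Set G)) = ν) :
    e * (p * Nat.card V) = ν ∧ e ∣ p - 1 ∧ e ≠ 1 := by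
  have h := K.D.hcard
  rw [hν, K.hP] at h
  refine ⟨h.symm, K.hP ▸ CCSylow.dvd_card_sub_one K.D, fun he => ?_⟩
  refine Small.centralizer_ne_normalizer (by rw [hG]; norm_num) (hG.symm ▸ hdvd) P ?_
  rw [card_centralizer K, hν, h, he, one_mul]

variable [Fintype G]

theorem SameVals.eleven (h : SameVals G) [IsSimpleGroup G] {x : G} (hx : orderOf x = 11) :
    Nat.card (Subgroup.centralizer ({x} : Set G)) = 11 := by
  haveI : Fact (Nat.Prime 11) := ⟨by norm_num⟩
  obtain ⟨P, V, e, K, hC⟩ := exists_conf_at (m := 22256640) h.card (by norm_num) hx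
  haveI : Fintype (P : Subgroup G) := Fintype.ofFinite _
  haveI : Fintype V := Fintype.ofFinite _
  haveI : Fintype (Subgroup.normalizer ((P : Subgroup G) : Set G)) := Fintype.ofFinite _
  haveI : Fintype ((P : Subgroup G) →* ℂˣ) := Fintype.ofFinite _
  obtain ⟨hev, hed, he1⟩ := conf_facts h.card (by norm_num) K
    (h.normalizer res11 (m := 22256640) (by norm_num) (by norm_num)
      (fun k hk hr => (eleven_check k hk).2.2 hr) P)
  rw [← hC, card_centralizer K]
  have hv : Nat.card V = 1 ∨ Nat.card V = 2 ∨ Nat.card V = 5 := by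
    have hd : Nat.card V ∈ Nat.divisors 10 := Nat.mem_divisors.2 ⟨⟨e, by linarith⟩, by norm_num⟩
    rw [show (10 : ℕ).divisors = {1, 2, 5, 10} by decide +kernel] at hd
    simp only [Finset.mem_insert, Finset.mem_singleton] at hd
    rcases hd with r | r | r | r
    · exact Or.inl r
    · exact Or.inr (Or.inl r)
    · exact Or.inr (Or.inr r)
    · exfalso; rw [r] at hev; omega
  rcases hv with hv | hv | hv
  · rw [hv]
  all_goals exfalso
  all_goals obtain ⟨_, -, -, hres⟩ := res11
  · -- one involution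
    haveI : Fact (Nat.Prime 2) := ⟨Nat.prime_two⟩
    obtain ⟨u, hu⟩ := exists_prime_orderOf_dvd_card' (G := G) 2 (by rw [h.card]; norm_num)
    have hV2 : ocount V 2 = 1 := by
      haveI := isCyclic_of_prime_card hv
      rw [ocount_cyclic, hv]
      rfl
    rcases ocount_residue K 2 with ⟨-, hr⟩ | ⟨k, hk, -⟩
    · rw [hV2] at hr
      obtain ⟨k, hk⟩ := h.to_std 2 (Nat.card_pos_iff.2 ⟨⟨⟨u, hu⟩⟩, inferInstance⟩)
      have hr' := hres k
      rw [← hk, show ocount G 2 % 11 = 1 from hr] at hr'
      have hk1 : k = 1 := by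
        by_cases hkL : k ∈ cent11.map ordE
        · exact (eleven_check k hkL).2.1 hr'.symm
        · rw [cnt_eq_zero hkL] at hr'; norm_num at hr'
      rw [hk1, ocount_one] at hk
      haveI : Subsingleton {g : G // orderOf g = 2} := (Nat.card_eq_one_iff_unique.1 hk).1
      have hcen : u ∈ Subgroup.center G := Subgroup.mem_center_iff.2 fun g => by
        have hu' : orderOf (g * u * g⁻¹) = 2 := by rw [← MulAut.conj_apply, MulEquiv.orderOf_eq, hu]
        have := congrArg Subtype.val (Subsingleton.elim (⟨_, hu'⟩ : {g : G // orderOf g = 2}) ⟨u, hu⟩)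
        exact mul_inv_eq_iff_eq_mul.1 this
      rw [DefOne.Order7920.center_trivial (by rw [h.card]; norm_num) hcen, orderOf_one] at hu
      omega
    · omega
  · -- four elements of order five
    have hV5 : ocount V 5 = 4 := by
      haveI : Fact (Nat.Prime 5) := ⟨by norm_num⟩
      haveI := isCyclic_of_prime_card hv
      rw [ocount_cyclic, hv]
      rfl
    rcases ocount_residue K 5 with ⟨-, hr⟩ | ⟨k, hk, -⟩
    · rw [hV5] at hr
      have hr5 : ocount G 5 % 11 = 4 := hr
      obtain ⟨k, hk⟩ := h.to_std 5 (Nat.pos_of_ne_zero fun h0 => by rw [h0] at hr5; norm_num at hr5)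
      have hr' := hres k
      rw [← hk, hr5] at hr'
      by_cases hkL : k ∈ cent11.map ordE
      · have := (eleven_check k hkL).1
        rw [← hr'] at this
        simp at this
      · rw [cnt_eq_zero hkL] at hr'; norm_num at hr'
    · omega

theorem SameVals.seven (h : SameVals G) [IsSimpleGroup G] {P : Sylow 7 G} {V : Subgroup G} {e : ℕ}
    [Fact (Nat.Prime 7)]
    (K : Conf 7 (P : Subgroup G) V (Subgroup.normalizer ((P : Subgroup G) : Set G)) e)
    [Fintype (P : Subgroup G)] [Fintype V] [Fintype (Subgroup.normalizer ((P : Subgroup G) : Set G))]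
    [Fintype ((P : Subgroup G) →* ℂˣ)] :
    Nat.card V = 6 ∧ ∃ a b : V, a * b ≠ b * a := by
  obtain ⟨hev, hed, he1⟩ := conf_facts h.card (by norm_num) K
    (h.normalizer res7 (m := 34974720) (by norm_num) (by norm_num) seven_check P)
  have he : e = 2 ∨ e = 3 ∨ e = 6 := by
    have hd : e ∈ Nat.divisors 6 := Nat.mem_divisors.2 ⟨hed, by norm_num⟩
    rw [show (6 : ℕ).divisors = {1, 2, 3, 6} by decide +kernel] at hd
    simp only [Finset.mem_insert, Finset.mem_singleton] at hd
    omega
  obtain ⟨_, -, -, hres⟩ := res7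
  have hr : ocount Mg 2 % 7 = 3 := (hres 2).trans seven_two
  obtain ⟨n, hn⟩ := h.from_std 2 (Nat.pos_of_ne_zero fun h0 => by rw [h0] at hr; norm_num at hr)
  rw [← hn] at hr
  have hk : ∃ k, ocount V k % 7 = 3 ∨ ocount V k % 7 = 4 := by
    rcases ocount_residue K n with ⟨-, h'⟩ | ⟨k, -, h'⟩
    · have : ocount G n % 7 = ocount V n % 7 := h'
      exact ⟨n, Or.inl (this.symm.trans hr)⟩
    · have : ocount G n % 7 = (7 - 1) * ocount V k % 7 := h'
      exact ⟨k, Or.inr (by omega)⟩
  obtain ⟨k, hk⟩ := hk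
  refine complement_seven ?_ hk
  simp only [List.mem_cons, List.not_mem_nil, or_false]
  rcases he with rfl | rfl | rfl <;> omega

theorem SameVals.five (h : SameVals G) [IsSimpleGroup G] {P : Sylow 5 G} {V : Subgroup G} {e : ℕ}
    [Fact (Nat.Prime 5)]
    (K : Conf 5 (P : Subgroup G) V (Subgroup.normalizer ((P : Subgroup G) : Set G)) e)
    [Fintype (P : Subgroup G)] [Fintype V] [Fintype (Subgroup.normalizer ((P : Subgroup G) : Set G))]
    [Fintype ((P : Subgroup G) →* ℂˣ)] :
    Nat.card V = 12 ∧ ocount V 2 = 3 ∧ ocount V 3 = 8 := by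
  haveI : Fact (Nat.Prime 7) := ⟨by norm_num⟩
  obtain ⟨P₇⟩ : Nonempty (Sylow 7 G) := inferInstance
  haveI : Fintype (P₇ : Subgroup G) := Fintype.ofFinite _
  obtain ⟨W, e₇, K₇, -⟩ := exists_conf (Fact.out : Nat.Prime 7) P₇
    (by rw [Small.sylow_card (m := 34974720) (k := 1) (by rw [h.card]; norm_num) (by norm_num) P₇, pow_one])
  haveI : Fintype W := Fintype.ofFinite _
  haveI : Fintype (Subgroup.normalizer ((P₇ : Subgroup G) : Set G)) := Fintype.ofFinite _
  haveI : Fintype ((P₇ : Subgroup G) →* ℂˣ) := Fintype.ofFinite _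
  obtain ⟨hW6, hWnc⟩ := h.seven K₇
  obtain ⟨w2, w3, w0⟩ := counts_six hW6 hWnc
  obtain ⟨hev, hed, he1⟩ := conf_facts h.card (by norm_num) K
    (h.normalizer res5 (m := 48964608) (by norm_num) (by norm_num) five_check P)
  have hjoint : ∀ n, (ocount G n % 7 = 3 → ocount G n % 5 = 3) ∧ (ocount G n % 7 = 2 → ocount G n % 5 = 3) ∧
      (ocount G n % 7 = 0 → ocount G n % 5 ∈ ([0, 2, 4] : List ℕ)) := fun n => by
    rcases Nat.eq_zero_or_pos (ocount G n) with h0 | h0
    · rw [h0]; simp
    · obtain ⟨k, hk⟩ := h.to_std n h0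
      rw [hk]
      exact joint k
  have hsmall : ∀ n, ¬ 7 ∣ n → ocount G n % 7 = ocount W n % 7 := fun n hn => by
    rcases ocount_residue K₇ n with ⟨-, h'⟩ | ⟨k, hk, -⟩
    · exact h'
    · exact absurd ⟨k, hk⟩ hn
  have hfive : ∀ n, ¬ 5 ∣ n → ocount G n % 5 = ocount V n % 5 := fun n hn => by
    rcases ocount_residue K n with ⟨-, h'⟩ | ⟨k, hk, -⟩
    · exact h'
    · exact absurd ⟨k, hk⟩ hn
  have h2 : ocount V 2 % 5 = 3 := (hfive 2 (by norm_num)).symm.trans
    ((hjoint 2).1 (by rw [hsmall 2 (by norm_num), w2]))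
  have h3 : ocount V 3 % 5 = 3 := (hfive 3 (by norm_num)).symm.trans
    ((hjoint 3).2.1 (by rw [hsmall 3 (by norm_num), w3]))
  have hev' : e * Nat.card V = 48 := by linarith
  have hv : Nat.card V = 12 ∨ Nat.card V = 24 := by
    have hd : e ∈ Nat.divisors 4 := Nat.mem_divisors.2 ⟨hed, by norm_num⟩
    rw [show (4 : ℕ).divisors = {1, 2, 4} by decide +kernel] at hd
    simp only [Finset.mem_insert, Finset.mem_singleton] at hd
    rcases hd with rfl | rfl | rfl <;> omega
  refine complement_five hv h2 h3 fun d hd => ?_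
  by_cases hdv : d ∣ Nat.card V
  swap
  · rw [ocount_eq_zero hdv]
  have hdle : d ≤ 24 := (Nat.le_of_dvd Nat.card_pos hdv).trans (by omega)
  have hd5 : ¬ 5 ∣ d := fun h5 => K.hV (h5.trans hdv)
  have hd7 : ¬ 7 ∣ d := fun h7 => by
    have := h7.trans hdv
    omega
  have a1 : ocount G d % 5 ∈ ([0, 2, 4] : List ℕ) :=
    (hjoint d).2.2 (by rw [hsmall d hd7, w0 d (by omega) (by omega) (by omega)])
  have a2 : ocount G (5 * d) % 5 ∈ ([0, 2, 4] : List ℕ) :=
    (hjoint (5 * d)).2.2 (by rw [hsmall (5 * d) (by omega), w0 (5 * d) (by omega) (by omega) (by omega)])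
  rcases ocount_residue K (5 * d) with ⟨h', -⟩ | ⟨k, hk, h'⟩
  · exact absurd (dvd_mul_right 5 d) h'
  obtain rfl : d = k := Nat.eq_of_mul_eq_mul_left (by norm_num) hk
  have h'' : ocount G (5 * d) % 5 = (5 - 1) * ocount V d % 5 := h'
  rw [hfive d hd5] at a1
  simp only [List.mem_cons, List.not_mem_nil, or_false] at a1 a2
  omega

/-- The local data. -/
theorem SameVals.locals (h : SameVals G) : NseLocals G := by
  haveI : IsSimpleGroup G := simple_of_counts h.card h.to_std
  haveI : Fact (Nat.Prime 23) := ⟨by norm_num⟩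
  haveI : Fact (Nat.Prime 11) := ⟨by norm_num⟩
  haveI : Fact (Nat.Prime 7) := ⟨by norm_num⟩
  haveI : Fact (Nat.Prime 5) := ⟨by norm_num⟩
  have n23 := fun P =>
    normalizer_eq (p := 23) (m := 10644480) h.card h.to_std std23 (by norm_num) (by norm_num) (by norm_num) P
  have n11 := fun P => h.normalizer res11 (m := 22256640) (by norm_num) (by norm_num)
    (fun k hk hr => (eleven_check k hk).2.2 hr) P
  have n7 := fun P => h.normalizer res7 (m := 34974720) (by norm_num) (by norm_num) seven_check P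
  have n5 := fun P => h.normalizer res5 (m := 48964608) (by norm_num) (by norm_num) five_check P
  have h7 : ∀ x : G, orderOf x = 7 → Nat.card (Subgroup.centralizer ({x} : Set G)) = 42 ∧
      ∃ a ∈ Subgroup.centralizer ({x} : Set G), ∃ b ∈ Subgroup.centralizer ({x} : Set G), a * b ≠ b * a := by
    intro x hx
    obtain ⟨P, V, e, K, hC⟩ := exists_conf_at (m := 34974720) h.card (by norm_num) hx
    haveI : Fintype (P : Subgroup G) := Fintype.ofFinite _
    haveI : Fintype V := Fintype.ofFinite _
    haveI : Fintype (Subgroup.normalizer ((P : Subgroup G) : Set G)) := Fintype.ofFinite _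
    haveI : Fintype ((P : Subgroup G) →* ℂˣ) := Fintype.ofFinite _
    obtain ⟨hv, a, b, hab⟩ := h.seven K
    rw [← hC, card_centralizer K, hv]
    exact ⟨rfl, a, V_le_centralizer K a.2, b, V_le_centralizer K b.2, fun e => hab (Subtype.ext e)⟩
  have h5 : ∀ x : G, orderOf x = 5 → Nat.card (Subgroup.centralizer ({x} : Set G)) = 60 ∧
      ocount (Subgroup.centralizer ({x} : Set G)) 2 = 3 ∧
      ocount (Subgroup.centralizer ({x} : Set G)) 3 = 8 := by
    intro x hx
    obtain ⟨P, V, e, K, hC⟩ := exists_conf_at (m := 48964608) h.card (by norm_num) hx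
    haveI : Fintype (P : Subgroup G) := Fintype.ofFinite _
    haveI : Fintype V := Fintype.ofFinite _
    haveI : Fintype (Subgroup.normalizer ((P : Subgroup G) : Set G)) := Fintype.ofFinite _
    haveI : Fintype ((P : Subgroup G) →* ℂˣ) := Fintype.ofFinite _
    obtain ⟨hv, v2, v3⟩ := h.five K
    rw [← hC, card_centralizer K, hv, ocount_cent_regular K (by norm_num), ocount_cent_regular K (by norm_num)]
    exact ⟨rfl, v2, v3⟩
  exact
    { L :=
        { card := h.card
          simple := inferInstance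
          c23 := fun x hx => cent_twenty_three h.card h.to_std n23 hx
          c11 := fun x hx => h.eleven hx
          n23 := n23
          n11 := n11 }
      c7 := fun x hx => (h7 x hx).1
      n7 := n7
      nonab7 := fun x hx => (h7 x hx).2
      c5 := fun x hx => (h5 x hx).1
      n5 := n5
      inv5 := fun x hx => (h5 x hx).2 }

end Cfsg.Agent.M24Nse
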