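import Cfsg.Agent.Lib.M23Uniq.Locals
import Cfsg.Agent.Lib.Golay.NoDefectZero
import Cfsg.Agent.Lib.Golay.Mathieu

/-!
A group of order 244823040 whose numbers of elements of equal order occur in the group of degree 24 is simple.
-/

set_option linter.unusedSectionVars false
set_option linter.style.haveILetI false
set_option maxRecDepth 100000

namespace Cfsg.Agent.M24Nse

open Cfsg Cfsg.Agent.Golay Cfsg.Agent.Golay.Cert Cfsg.Agent.Golay.SB Cfsg.Agent.M23Uniq

universe u

set_option quotPrecheck false in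
local notation "Mg" => (↥Cfsg.M24)

/-- The bound on the normaliser of the subgroup of an element with data. -/
theorem std_bound (E : Elem) :
    orderOf (⟨_, E.x_mem⟩ : Mg) = E.O.p ∧
      Nat.card (Subgroup.normalizer ((Subgroup.zpowers (⟨_, E.x_mem⟩ : Mg) : Subgroup Mg) : Set Mg)) ≤
        (E.free ∅).card.factorial * (E.O.p * E.b) := by
  letI : Fintype Mg := Fintype.ofFinite _
  have hle := E.le_index le_rfl E.x_mem ∅ (fun σ _ q hq => absurd hq (by simp))
  refine ⟨by rw [← Nat.card_zpowers, E.order], ?_⟩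
  set N := Subgroup.normalizer ((Subgroup.zpowers (⟨_, E.x_mem⟩ : Mg) : Subgroup Mg) : Set Mg)
  have := N.card_mul_index
  rw [← this, mul_comm (Nat.card N)] at hle
  exact Nat.le_of_mul_le_mul_left hle (Nat.pos_of_ne_zero Subgroup.index_ne_zero_of_finite)

/-- An element of order `p` of the standard group: self-centralizing, with normaliser of order `v`. -/
theorem std_local {p m v : ℕ} [Fact p.Prime] (hcard : 244823040 = p ^ 1 * m) (hm : ¬ p ∣ m)
    {x : Mg} (hx : orderOf x = p)
    (hle : Nat.card (Subgroup.normalizer ((Subgroup.zpowers x : Subgroup Mg) : Set Mg)) ≤ v)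
    (hv : ∀ a, a ≤ v → a ∣ 244823040 → p ∣ a → 244823040 / a % p = 1 → a = v)
    (hc : ∀ c, c ∣ v → p ∣ c → c ≠ v → c = p) :
    Nat.card (Subgroup.normalizer ((Subgroup.zpowers x : Subgroup Mg) : Set Mg)) = v ∧
      Nat.card (Subgroup.centralizer ({x} : Set Mg)) = p := by
  haveI : IsSimpleGroup Mg := isSimpleGroup_M24
  have hM : Nat.card Mg = p ^ 1 * m := card_M24.trans hcard
  obtain ⟨P, hP⟩ := zpowers_eq_sylow hM hm hx
  rw [← centralizer_zpowers x]
  rw [hP] at hle ⊢
  have hPc : Nat.card (P : Subgroup Mg) = p := by rw [Small.sylow_card hM hm P, pow_one]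
  have hmul := Small.card_normalizer_mul P
  rw [card_M24] at hmul
  set a := Nat.card (Subgroup.normalizer ((P : Subgroup Mg) : Set Mg)) with ha
  have hap : p ∣ a := by
    rw [← hPc]; exact Subgroup.card_dvd_of_le Subgroup.le_normalizer
  have hav : a = v := by
    refine hv a hle ⟨_, hmul.symm⟩ hap ?_
    rw [← hmul, Nat.mul_div_cancel_left _ Nat.card_pos]
    have h1 := card_sylow_modEq_one p Mg
    rw [Nat.ModEq, Nat.one_mod_eq_one.2 (Fact.out : p.Prime).ne_one] at h1
    exact h1
  refine ⟨hav, hc _ ?_ ?_ ?_⟩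
  · rw [← hav]; exact Subgroup.card_dvd_of_le (Small.centralizer_le_normalizer _)
  · conv_lhs => rw [← hPc]
    exact Subgroup.card_dvd_of_le (Small.le_centralizer_self _ hPc)
  · rw [← hav]
    exact Small.centralizer_ne_normalizer (by rw [card_M24]; norm_num) (hM ▸ Dvd.intro m (by rw [pow_one])) P

/-- What is used about a prime. -/
def Std (p v : ℕ) : Prop :=
  ∃ x : Mg, orderOf x = p ∧ Nat.card (Subgroup.centralizer ({x} : Set Mg)) = p ∧
    Nat.card (Subgroup.normalizer ((Subgroup.zpowers x : Subgroup Mg) : Set Mg)) = v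

theorem std23 : Std 23 253 := by
  haveI : Fact (Nat.Prime 23) := ⟨by norm_num⟩
  obtain ⟨ho, hle⟩ := std_bound E23
  rw [free24.2.2.2, Nat.factorial_one, one_mul] at hle
  obtain ⟨hN, hC⟩ := std_local (p := 23) (m := 10644480) (v := 253) (by norm_num) (by norm_num) ho hle
    (fun a ha _ hp hq => by
      have hall : ∀ a < 254, 23 ∣ a → 244823040 / a % 23 = 1 → a = 253 := by decide +kernel
      exact hall a (by omega) hp hq)
    (fun c hc hp hne => by
      have hall : ∀ c < 254, c ∣ 253 → 23 ∣ c → c ≠ 253 → c = 23 := by decide +kernel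
      exact hall c (Nat.lt_succ_of_le (Nat.le_of_dvd (by norm_num) hc)) hc hp hne)
  exact ⟨_, ho, hC, hN⟩

variable {G : Type u} [Group G] [Finite G]

/-- A count that is a count of the standard group forces the Sylow normaliser. -/
theorem normalizer_eq {p m v : ℕ} [Fact p.Prime] (hG : Nat.card G = 244823040)
    (hto : ∀ n, 0 < ocount G n → ∃ k, ocount G n = ocount Mg k)
    (hs : Std p v) (hcard : 244823040 = p * m) (hm : ¬ p ∣ m) (hp2 : p ≠ 2) (P : Sylow p G) :
    Nat.card (Subgroup.normalizer ((P : Subgroup G) : Set G)) = v := by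
  have hp := (Fact.out : p.Prime)
  obtain ⟨g, hg⟩ := exists_prime_orderOf_dvd_card' (G := G) p (hG.symm ▸ hcard.symm ▸ dvd_mul_right p m)
  have hpos : 0 < ocount G p := Nat.card_pos_iff.2 ⟨⟨⟨g, hg⟩⟩, inferInstance⟩
  obtain ⟨d, hd⟩ := hto p hpos
  have hmod : ocount G p % p = p - 1 := by
    rw [ocount, M12Uniq.count_prime (hG.trans hcard) hm, Nat.mul_mod, card_sylow_modEq_one p G, ← Nat.mul_mod,
      one_mul, Nat.mod_eq_of_lt (Nat.sub_lt hp.pos one_pos)]
  obtain ⟨x, hx, hC, hN⟩ := hs
  have hxM : Nat.card Mg = p ^ 1 * m := card_M24.trans (by rw [pow_one]; exact hcard)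
  haveI : IsCyclic (Subgroup.centralizer ({x} : Set Mg)) := isCyclic_of_prime_card (p := p) hC
  have h1 := ocount_modEq hx d
  rw [ocount_cyclic (G := Subgroup.centralizer ({x} : Set Mg)), hC, Nat.ModEq, ← hd, hmod] at h1
  have hdp : d = p := by
    split_ifs at h1 with hdd
    · rcases (Nat.dvd_prime hp).1 hdd with r | r
      · rw [r, Nat.totient_one, Nat.one_mod_eq_one.2 hp.ne_one] at h1
        have := hp.two_le
        omega
      · exact r
    · rw [Nat.zero_mod] at h1
      have := hp.two_le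
      omega
  subst hdp
  obtain ⟨Q, hQ⟩ := zpowers_eq_sylow hxM hm hx
  rw [hQ] at hN
  have e1 := Small.card_normalizer_mul P
  have e2 := Small.card_normalizer_mul Q
  rw [hN, card_M24, ← hG] at e2
  have e3 : Nat.card (Sylow d G) = Nat.card (Sylow d Mg) := by
    rw [ocount, ocount, M12Uniq.count_prime (hG.trans hcard) hm,
      M12Uniq.count_prime (by rw [card_M24]; exact hcard) hm] at hd
    exact Nat.eq_of_mul_eq_mul_right (Nat.sub_pos_of_lt hp.one_lt) hd
  rw [← e3, ← e1] at e2
  exact (Nat.eq_of_mul_eq_mul_right Nat.card_pos e2).symm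

/-- The centralizer of an element of order 23 has order 23. -/
theorem cent_twenty_three (hG : Nat.card G = 244823040) [Fact (Nat.Prime 23)]
    (hto : ∀ n, 0 < ocount G n → ∃ k, ocount G n = ocount Mg k)
    (h55 : ∀ P : Sylow 23 G, Nat.card (Subgroup.normalizer ((P : Subgroup G) : Set G)) = 253)
    {x : G} (hx : orderOf x = 23) : Nat.card (Subgroup.centralizer ({x} : Set G)) = 23 := by
  obtain ⟨P, hP⟩ := zpowers_eq_sylow (m := 10644480) (by rw [hG]; norm_num) (by norm_num) hx
  set C := Subgroup.centralizer ({x} : Set G) with hC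
  have hd : Nat.card C ∣ 253 := by
    rw [← h55 P, ← hP, hC, ← centralizer_zpowers]
    exact Subgroup.card_dvd_of_le (Small.centralizer_le_normalizer _)
  have hge : 23 ∣ Nat.card C := by
    rw [← hx, ← Nat.card_zpowers]
    exact Subgroup.card_dvd_of_le (Subgroup.zpowers_le.2 (Subgroup.mem_centralizer_singleton_iff.2 rfl))
  have hall : ∀ c < 254, c ∣ 253 → 23 ∣ c → c = 23 ∨ c = 253 := by decide +kernel
  rcases hall _ (Nat.lt_succ_of_le (Nat.le_of_dvd (by norm_num) hd)) hd hge with r | r
  · exact r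
  exfalso
  haveI : Fact (Nat.Prime 11) := ⟨by norm_num⟩
  obtain ⟨g, hg⟩ := exists_prime_orderOf_dvd_card' (G := C) 11 (by rw [r]; norm_num)
  set xc : C := ⟨x, Subgroup.mem_centralizer_singleton_iff.2 rfl⟩
  have hcomm : Commute xc g := Subtype.ext (Subgroup.mem_centralizer_singleton_iff.1 g.2).symm
  haveI : IsCyclic C := isCyclic_of_orderOf_eq_card (xc * g) (by
    rw [hcomm.orderOf_mul_eq_mul_orderOf_of_coprime] <;> rw [Subgroup.orderOf_mk, hx, hg]
    · rw [r]
    · norm_num)
  have h1 := ocount_modEq hx 253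
  rw [ocount_cyclic (G := C), r, if_pos (dvd_refl 253), show Nat.totient 253 = 220 by decide +kernel, Nat.ModEq] at h1
  have hpos : 0 < ocount G 253 := Nat.pos_of_ne_zero fun h0 => by
    rw [h0] at h1
    norm_num at h1
  obtain ⟨k, hk⟩ := hto 253 hpos
  obtain ⟨y, hy, hyC, -⟩ := std23
  haveI : IsCyclic (Subgroup.centralizer ({y} : Set Mg)) := isCyclic_of_prime_card (p := 23) hyC
  have h2 := ocount_modEq hy k
  rw [ocount_cyclic (G := Subgroup.centralizer ({y} : Set Mg)), hyC, Nat.ModEq, ← hk, h1] at h2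
  split_ifs at h2 with hdd
  · rcases (Nat.dvd_prime (by norm_num)).1 hdd with e | e <;> subst e
    · rw [Nat.totient_one] at h2; norm_num at h2
    · rw [Nat.totient_prime (by norm_num)] at h2; norm_num at h2

/-- A normal subgroup of order prime to 23 is trivial when the elements of order 23 centralize no other. -/
theorem eq_bot_of_cop (hG : Nat.card G = 244823040) [Fact (Nat.Prime 23)]
    (hC : ∀ x : G, orderOf x = 23 → Nat.card (Subgroup.centralizer ({x} : Set G)) = 23)
    (N : Subgroup G) [N.Normal] (h11 : ¬ 23 ∣ Nat.card N) : N = ⊥ := by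
  by_contra hne
  obtain ⟨q, hq, hqN⟩ := Nat.exists_prime_and_dvd (fun h => hne (Subgroup.card_eq_one.1 h))
  haveI := Fact.mk hq
  obtain ⟨Q⟩ : Nonempty (Sylow q N) := inferInstance
  set R := (Q : Subgroup N).map N.subtype with hR
  set L := Subgroup.normalizer (R : Set G) with hL
  have hidx : N.index ∣ Nat.card L := by
    rw [← Subgroup.relIndex_top_right, ← Sylow.normalizer_sup_eq_top Q, Subgroup.relIndex_sup_right]
    exact Subgroup.index_dvd_card _
  have h11L : 23 ∣ Nat.card L := by
    refine dvd_trans ?_ hidx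
    have h : 23 ∣ N.index * Nat.card N := by rw [N.index_mul_card, hG]; norm_num
    exact ((Fact.out : Nat.Prime 23).dvd_mul.1 h).resolve_right h11
  obtain ⟨⟨x, hxL⟩, hx⟩ := exists_prime_orderOf_dvd_card' (G := L) 23 h11L
  rw [Subgroup.orderOf_mk] at hx
  obtain ⟨k, hk⟩ : ∃ k, Nat.card R = q ^ k := IsPGroup.iff_card.1 (Q.isPGroup'.map N.subtype)
  have hk0 : k ≠ 0 := fun e => by
    rw [e, pow_zero, Subgroup.card_eq_one, hR, Subgroup.map_eq_bot_iff_of_injective _ N.subtype_injective] at hk
    exact Q.ne_bot_of_dvd_card hqN hk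
  have hkd : q ^ k ∣ 244823040 := hG ▸ hk ▸ R.card_subgroup_dvd_card
  have hq11 : q ≠ 23 := fun e => h11 (e ▸ hqN)
  have h := fixed_modEq hx (fun g : G => g ∈ R) fun a g ha hg =>
    (Subgroup.mem_normalizer_iff.1 ((Subgroup.zpowers_le.2 hxL) ha) g).1 hg
  rw [show Nat.card {g : G // g ∈ R} = q ^ k from hk] at h
  have h1 : Nat.card {g : G // g ∈ R ∧ x * g = g * x} = 1 := by
    refine Nat.card_eq_one_iff_unique.2 ⟨?_, ⟨⟨1, R.one_mem, by simp⟩⟩⟩
    suffices hall : ∀ g : {g : G // g ∈ R ∧ x * g = g * x}, g.1 = 1 from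
      ⟨fun a b => Subtype.ext ((hall a).trans (hall b).symm)⟩
    intro g
    have d1 : orderOf g.1 ∣ 23 := hC x hx ▸
      Subgroup.orderOf_dvd_natCard _ (Subgroup.mem_centralizer_singleton_iff.2 g.2.2.symm)
    have d2 : orderOf g.1 ∣ q ^ k := hk ▸ Subgroup.orderOf_dvd_natCard _ g.2.1
    exact orderOf_eq_one_iff.1 (Nat.eq_one_of_dvd_coprimes
      (Nat.Coprime.pow_right k ((Nat.coprime_primes (by norm_num : Nat.Prime 23) hq).2 (Ne.symm hq11))) d1 d2)
  rw [h1, Nat.ModEq] at h
  have hq4 : q ∈ ([2, 3, 5, 7, 11] : List ℕ) := by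
    have hd : q ∣ 2 ^ 10 * 3 ^ 3 * 5 * 7 * 11 * 23 := by norm_num; exact (dvd_pow_self q hk0).trans hkd
    rcases hq.dvd_mul.1 hd with hd | hd
    · rcases hq.dvd_mul.1 hd with hd | hd
      · rcases hq.dvd_mul.1 hd with hd | hd
        · rcases hq.dvd_mul.1 hd with hd | hd
          · rcases hq.dvd_mul.1 hd with hd | hd
            · simp [(Nat.prime_dvd_prime_iff_eq hq Nat.prime_two).1 (hq.dvd_of_dvd_pow hd)]
            · simp [(Nat.prime_dvd_prime_iff_eq hq Nat.prime_three).1 (hq.dvd_of_dvd_pow hd)]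
          · simp [(Nat.prime_dvd_prime_iff_eq hq (by norm_num)).1 hd]
        · simp [(Nat.prime_dvd_prime_iff_eq hq (by norm_num)).1 hd]
      · simp [(Nat.prime_dvd_prime_iff_eq hq (by norm_num)).1 hd]
    · exact absurd ((Nat.prime_dvd_prime_iff_eq hq (by norm_num)).1 hd) hq11
  have hk28 : k < 28 := by
    by_contra hk'
    have h2 : 2 ^ 28 ≤ q ^ k := (Nat.pow_le_pow_left hq.two_le 28).trans
      (Nat.pow_le_pow_right hq.pos (by omega))
    have h3 := Nat.le_of_dvd (by norm_num) hkd
    norm_num at h2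
    omega
  have hall : ∀ q ∈ ([2, 3, 5, 7, 11] : List ℕ), ∀ k < 28, 244823040 % q ^ k = 0 → q ^ k % 23 = 1 → k = 0 := by
    decide +kernel
  exact hk0 (hall q hq4 k hk28 (Nat.mod_eq_zero_of_dvd hkd) (h.trans (Nat.one_mod_eq_one.2 (by norm_num))))

/-- The group is simple. -/
theorem simple_of_counts (hG : Nat.card G = 244823040)
    (hto : ∀ n, 0 < ocount G n → ∃ k, ocount G n = ocount Mg k) : IsSimpleGroup G := by
  haveI : Fact (Nat.Prime 23) := ⟨by norm_num⟩
  haveI : Nontrivial G := Finite.one_lt_card_iff_nontrivial.1 (by rw [hG]; norm_num)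
  have h253 := fun P =>
    normalizer_eq (p := 23) (m := 10644480) hG hto std23 (by norm_num) (by norm_num) (by norm_num) P
  have hcase := fun (N : Subgroup G) (hN : N.Normal) h =>
    @eq_bot_of_cop G _ _ hG _ (fun x hx => cent_twenty_three hG hto h253 hx) N hN h
  refine ⟨fun N hN => ?_⟩
  haveI := hN
  by_cases h23 : 23 ∣ Nat.card N
  swap
  · exact Or.inl (hcase N hN h23)
  right
  have hmul := N.index_mul_card
  rw [hG] at hmul
  have hi := index_dvd_normalizer (p := 23) (m := 10644480) (by rw [hG]; norm_num) (by norm_num) h253 N h23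
  have hi' : N.index ∈ Nat.divisors 253 := Nat.mem_divisors.2 ⟨hi, by norm_num⟩
  rw [show (253 : ℕ).divisors = {1, 11, 23, 253} by decide +kernel] at hi'
  simp only [Finset.mem_insert, Finset.mem_singleton] at hi'
  rcases hi' with r | r | r | r <;> rw [r] at hmul
  · exact Subgroup.index_eq_one.1 r
  rotate_left
  · exfalso; omega
  · exfalso; omega
  exfalso
  have hNc : Nat.card N = 23 * 967680 := by omega
  have hall : ∀ g : G, orderOf g = 23 → g ∈ N := fun g hg => by
    rw [← QuotientGroup.eq_one_iff]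
    refine orderOf_eq_one_iff.1 (Nat.eq_one_of_dvd_coprimes (by norm_num : Nat.Coprime 23 11) ?_ ?_)
    · rw [← hg]; exact orderOf_map_dvd (QuotientGroup.mk' N) g
    · rw [← r, Subgroup.index_eq_card]; exact orderOf_dvd_natCard _
  obtain ⟨P₀⟩ : Nonempty (Sylow 23 G) := inferInstance
  have hn : Nat.card (Sylow 23 G) = 967680 := by
    have h := Small.card_normalizer_mul P₀
    rw [h253, hG] at h
    omega
  have hNn : Nat.card (Sylow 23 N) = 967680 := by
    have h := M12Uniq.count_prime (H := N) hNc (by norm_num)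
    rw [Nat.card_congr (show {g : N // orderOf g = 23} ≃ {g : G // orderOf g = 23} from
      { toFun := fun g => ⟨g.1.1, by rw [Subgroup.orderOf_coe]; exact g.2⟩
        invFun := fun g => ⟨⟨g.1, hall g.1 g.2⟩, by rw [Subgroup.orderOf_mk]; exact g.2⟩
        left_inv := fun g => rfl
        right_inv := fun g => rfl }), M12Uniq.count_prime (m := 10644480) (by rw [hG]) (by norm_num), hn] at h
    omega
  obtain ⟨P⟩ : Nonempty (Sylow 23 N) := inferInstance
  have hPc : Nat.card (P : Subgroup N) = 23 := by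
    rw [Small.sylow_card (k := 1) (by rw [pow_one, hNc]) (by norm_num) P, pow_one]
  have hPN := Small.card_normalizer_mul P
  rw [hNn, hNc] at hPN
  have hnorm : Subgroup.normalizer ((P : Subgroup N) : Set N) = (P : Subgroup N) :=
    (Subgroup.eq_of_le_of_card_ge Subgroup.le_normalizer (by rw [hPc]; omega)).symm
  haveI : IsCyclic (P : Subgroup N) := isCyclic_of_prime_card hPc
  letI := IsCyclic.commGroup (α := (P : Subgroup N))
  have hPC : Subgroup.normalizer ((P : Subgroup N) : Set N) ≤
      Subgroup.centralizer ((P : Subgroup N) : Set N) := fun g hg => by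
    rw [hnorm] at hg
    refine Subgroup.mem_centralizer_iff.2 fun z hz => ?_
    exact congrArg Subtype.val (mul_comm (⟨z, hz⟩ : (P : Subgroup N)) ⟨g, hg⟩)
  set K := (MonoidHom.transferSylow P hPC).ker with hK
  have hKc : Nat.card K = 967680 := by
    have h : Nat.card K * Nat.card (P : Subgroup N) = Nat.card N :=
      (MonoidHom.ker_transferSylow_isComplement' P hPC).card_mul
    rw [hPc, hNc] at h
    omega
  have hKmem : ∀ g : N, ¬ 23 ∣ orderOf g → g ∈ K := fun g hg => by
    rw [hK, MonoidHom.mem_ker]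
    exact orderOf_eq_one_iff.1 (Nat.eq_one_of_dvd_coprimes
      ((Fact.out : Nat.Prime 23).coprime_iff_not_dvd.2 hg)
      ((orderOf_dvd_natCard _).trans (dvd_of_eq hPc)) (orderOf_map_dvd _ g))
  have hKn : (K.map N.subtype).Normal := ⟨fun g hg h => by
    obtain ⟨g', hg', rfl⟩ := Subgroup.mem_map.1 hg
    refine Subgroup.mem_map.2 ⟨⟨h * g' * h⁻¹, hN.conj_mem _ g'.2 h⟩, hKmem _ ?_, rfl⟩
    rw [Subgroup.orderOf_mk, ← MulAut.conj_apply, MulEquiv.orderOf_eq, Subgroup.orderOf_coe]
    intro hd
    have := hd.trans (Subgroup.orderOf_dvd_natCard K hg')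
    rw [hKc] at this
    norm_num at this⟩
  have hKmc : Nat.card (K.map N.subtype) = 967680 := by
    rw [← Nat.card_congr (Subgroup.equivMapOfInjective _ N.subtype N.subtype_injective).toEquiv, hKc]
  have := hcase _ hKn (by rw [hKmc]; norm_num)
  rw [this, Subgroup.card_bot] at hKmc
  omega

end Cfsg.Agent.M24Nse
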