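import Cfsg.Agent.Lib.M24Nse.Simple
import Cfsg.Agent.Lib.M24Nse.StdCentData
import Cfsg.Agent.Lib.Golay.Local.ClassTools

/-!
The centralisers of the elements of orders five and seven in the group of the code, listed with the
orders of their elements.
-/

set_option linter.unusedSectionVars false
set_option linter.style.haveILetI false
set_option maxRecDepth 100000

namespace Cfsg.Agent.M24Nse

open Cfsg Cfsg.Agent.PermCert Cfsg.Agent.Golay Cfsg.Agent.Golay.Local Cfsg.Agent.M23Uniq
open Cfsg.Agent.Golay.SB (E5 E7)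

set_option quotPrecheck false in
local notation "Mg" => (↥Cfsg.M24)

/-- The first exponent `≥ n` at which the power is the identity, searched for `fuel` steps. -/
def findOrd (e cur n fuel : ℕ) : ℕ :=
  Nat.rec (fun _ _ => 0) (fun _ ih cur n => bif sameF cur idC then n else ih (cmpF e cur) (n + 1)) fuel cur n

theorem findOrd_spec {e : ℕ} {σ : Equiv.Perm GolayPt} (he : Code e σ) : ∀ (fuel cur n : ℕ),
    Code cur (σ ^ n) → 0 < n → (∀ m, 0 < m → m < n → σ ^ m ≠ 1) → findOrd e cur n fuel ≠ 0 →
    orderOf σ = findOrd e cur n fuel := by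
  intro fuel
  induction fuel with
  | zero => intro cur n _ _ _ h; exact absurd rfl h
  | succ fuel ih =>
    intro cur n hc hn hlt hne
    have hunf : findOrd e cur n (fuel + 1) =
        bif sameF cur idC then n else findOrd e (cmpF e cur) (n + 1) fuel := rfl
    rw [hunf] at hne ⊢
    cases hs : sameF cur idC
    · rw [hs, cond_false] at hne
      rw [cond_false]
      refine ih _ _ (by rw [pow_succ']; exact he.cmp hc) (by omega) ?_ hne
      intro m hm hmn
      rcases Nat.lt_succ_iff_lt_or_eq.1 hmn with h | rfl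
      · exact hlt m hm h
      · intro h1
        rw [(sameF_iff hc code_idC).2 h1] at hs
        exact absurd hs (by decide)
    · rw [cond_true]
      exact (orderOf_eq_iff hn).2 ⟨(sameF_iff hc code_idC).1 hs, fun m hm hm0 => hlt m hm0 hm⟩

/-- The order of a listed element. -/
def ordE (e : Elt) : ℕ := findOrd e.1 e.1 1 64

/-- What is checked about a listed centraliser. -/
def centOK (p : ℕ) (x w : Elt) (L : List Elt) : Bool :=
  eltOK₂ w && sameF (cmpF w.1 x.1) (cmpF (cmpF x.1 x.1) w.1) &&
    allF (fun e => eltOK₂ e && sameF (cmpF e.1 x.1) (cmpF x.1 e.1) && !(Nat.beq (ordE e) 0)) L &&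
    distinctB (L.map fun e => cmpF e.1 idC) && Nat.beq (ordE x) p
where
  /-- All entries differ. -/
  distinctB : List ℕ → Bool
    | [] => true
    | a :: l => !(memF a l) && distinctB l

theorem distinctB_spec : ∀ {l : List ℕ}, centOK.distinctB l = true → l.Nodup
  | [], _ => List.nodup_nil
  | a :: l, h => by
    simp only [centOK.distinctB, Bool.and_eq_true, Bool.not_eq_true', ← Bool.not_eq_true, memF_iff] at h
    exact List.nodup_cons.2 ⟨h.1, distinctB_spec h.2⟩

/-- The listed centraliser: its elements and their orders. -/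
theorem std_cent {p : ℕ} {x w : Elt} {L : List Elt} (hok : centOK p x w L = true)
    (hx : eltOK₂ x = true) (hp : p ≠ 0) (hxM : permOf x ∈ Cfsg.M24) :
    ∃ (v : Mg) (f : Fin L.length → Mg), orderOf (⟨permOf x, hxM⟩ : Mg) = p ∧
      v * ⟨permOf x, hxM⟩ * v⁻¹ = (⟨permOf x, hxM⟩ : Mg) ^ 2 ∧ Function.Injective f ∧
      (∀ i, f i * ⟨permOf x, hxM⟩ = ⟨permOf x, hxM⟩ * f i) ∧ ∀ i, orderOf (f i) = ordE (L.get i) := by
  simp only [centOK, Bool.and_eq_true, allF_iff, Bool.not_eq_true', ← Bool.not_eq_true, Nat.beq_eq] at hok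
  obtain ⟨⟨⟨⟨hw, hwx⟩, hall⟩, hnd⟩, hxo⟩ := hok
  obtain ⟨hxv, -⟩ := eltOK_spec hx
  obtain ⟨hwv, hwM⟩ := eltOK_spec hw
  have hord : ∀ e : Elt, validElt 5 24 e = true → ordE e ≠ 0 → orderOf (permOf e) = ordE e :=
    fun e hv h => findOrd_spec (code_permOf hv) 64 e.1 1 (by rw [pow_one]; exact code_permOf hv) one_pos
      (fun m h1 h2 => by omega) h
  refine ⟨⟨permOf w, hwM⟩,
    fun i => ⟨permOf (L.get i), (eltOK_spec (hall _ (List.get_mem L i)).1.1).2⟩, ?_, ?_, ?_, fun i => ?_,
    fun i => ?_⟩
  · rw [← Subgroup.orderOf_coe, hord x hxv (by rw [hxo]; exact hp), hxo]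
  · refine Subtype.ext ?_
    have h := (sameF_iff ((code_permOf hwv).cmp (code_permOf hxv))
      (((code_permOf hxv).cmp (code_permOf hxv)).cmp (code_permOf hwv))).1 hwx
    simp only [Subgroup.coe_mul, Subgroup.coe_inv, SubmonoidClass.coe_pow, pow_two]
    rw [h, mul_inv_cancel_right]
  · intro i j hij
    have h := congrArg Subtype.val hij
    have hvi := (eltOK_spec (hall _ (List.get_mem L i)).1.1).1
    have hvj := (eltOK_spec (hall _ (List.get_mem L j)).1.1).1
    have hk : cmpF (L.get i).1 idC = cmpF (L.get j).1 idC :=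
      (code_permOf hvi).cmpF_congr (show Code (L.get j).1 (permOf (L.get i)) from
        (show permOf (L.get i) = permOf (L.get j) from h) ▸ code_permOf hvj) code_idC
    have hn := distinctB_spec hnd
    refine Fin.ext ?_
    have := hn.getElem_inj_iff (hi := by simp) (hj := by simp) (i := i.1) (j := j.1)
    simp only [List.getElem_map] at this
    exact this.1 (by simpa [List.get_eq_getElem] using hk)
  · obtain ⟨⟨h1, h2⟩, h3⟩ := hall _ (List.get_mem L i)
    exact Subtype.ext ((sameF_iff ((code_permOf (eltOK_spec h1).1).cmp (code_permOf hxv))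
      ((code_permOf hxv).cmp (code_permOf (eltOK_spec h1).1))).1 h2)
  · obtain ⟨⟨h1, h2⟩, h3⟩ := hall _ (List.get_mem L i)
    rw [← Subgroup.orderOf_coe]
    exact hord _ (eltOK_spec h1).1 h3

theorem cent7_ok : centOK 7 SB.elt7 wit7 cent7 = true ∧ eltOK₂ SB.elt7 = true := by decide +kernel

theorem cent5_ok : centOK 5 SB.elt5 wit5 cent5 = true ∧ eltOK₂ SB.elt5 = true := by decide +kernel

theorem cent11_ok : centOK 11 SB.elt11 wit11 cent11 = true ∧ eltOK₂ SB.elt11 = true := by decide +kernel

/-- The number of listed elements of each order. -/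
def cnt (L : List Elt) (k : ℕ) : ℕ := (L.map ordE).count k

theorem card_filter_get {α : Type} (L : List α) (F : α → ℕ) (k : ℕ) :
    (Finset.univ.filter fun i : Fin L.length => F (L.get i) = k).card =
      L.countP ((fun a => a == k) ∘ F) := by
  induction L with
  | nil => simp
  | cons a l ih =>
    rw [List.countP_cons, Finset.card_filter]
    refine (Fin.sum_univ_succ (n := l.length) (f := fun i => if F ((a :: l).get i) = k then 1 else 0)).trans ?_
    rw [← ih, Finset.card_filter]
    simp [add_comm]
    by_cases h : F a = k <;> simp [h]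

/-- An element of prime order with its centraliser counted: the normaliser and all counts modulo the prime. -/
theorem std_data (E : SB.Elem) {m ν e : ℕ} (L : List Elt) {w : Elt} (hok : centOK E.O.p E.O.x w L = true)
    (hx : eltOK₂ E.O.x = true) (hm : 244823040 = E.O.p * m) (hpm : ¬ E.O.p ∣ m)
    (hle : (E.free ∅).card.factorial * (E.O.p * E.b) = ν) (hν : L.length * e = ν) (he : 0 < e)
    (hpow : ∀ i < e, ∀ j < e, 2 ^ i % E.O.p = 2 ^ j % E.O.p → i = j) :
    ∃ y : Mg, orderOf y = E.O.p ∧
      Nat.card (Subgroup.normalizer ((Subgroup.zpowers y : Subgroup Mg) : Set Mg)) = ν ∧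
      ∀ k, ocount Mg k % E.O.p = cnt L k % E.O.p := by
  classical
  haveI : Fact E.O.p.Prime := ⟨E.prime⟩
  obtain ⟨v, f, ho, hv, hf, hcomm, hord⟩ := std_cent hok hx E.prime.ne_zero E.x_mem
  set y : Mg := ⟨permOf E.O.x, E.x_mem⟩ with hy
  set C := Subgroup.centralizer ({y} : Set Mg) with hC
  have hfC : ∀ i, f i ∈ C := fun i => Subgroup.mem_centralizer_singleton_iff.2 (hcomm i)
  let g : Fin L.length → C := fun i => ⟨f i, hfC i⟩
  have hg : Function.Injective g := fun i j h => hf (congrArg Subtype.val h)
  have hge := Nat.card_le_card_of_injective g hg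
  rw [Nat.card_fin] at hge
  have hN := (std_bound E).2
  rw [hle] at hN
  have hmul := mul_le_normalizer (e := e) (k := 2) hv (by rw [ho]; exact hpow)
  rw [← hC] at hmul
  have hcC : Nat.card C = L.length := by
    refine le_antisymm (Nat.le_of_mul_le_mul_right ?_ he) hge
    rw [hν]
    exact hmul.trans hN
  refine ⟨y, ho, le_antisymm hN ?_, fun k => ?_⟩
  · rw [← hν, ← hcC]
    exact hmul
  have h1 : ocount Mg k % E.O.p = ocount C k % E.O.p := ocount_modEq ho k
  rw [h1]
  congr 1
  have hbij : Function.Bijective g := (Nat.bijective_iff_injective_and_card g).2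
    ⟨hg, by rw [Nat.card_fin, hcC]⟩
  have hcount : ocount C k = Nat.card {i : Fin L.length // ordE (L.get i) = k} := by
    refine (Nat.card_congr ((Equiv.ofBijective g hbij).subtypeEquiv fun i => ?_)).symm
    rw [← Subgroup.orderOf_coe]
    show _ ↔ orderOf (f i) = k
    rw [hord i]
  rw [hcount, cnt, List.count_eq_countP, List.countP_map, Nat.card_eq_fintype_card, Fintype.card_subtype]
  exact (card_filter_get L ordE k).trans rfl

end Cfsg.Agent.M24Nse
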